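import Mathlib

set_option autoImplicit false
set_option backward.isDefEq.respectTransparency.types false
set_option linter.style.haveILetI false
universe u

open scoped TensorProduct

/-!
A Lie algebra which is finitely generated as a module and whose fibres at all primes are nilpotent
is nilpotent; Engel for such Lie algebras.
-/

namespace Groth.Agent.LieNilp26

variable {A : Type u} [CommRing A] (L : Type u) [LieRing L] [LieAlgebra A L]

variable (A) in
/-- The bracket as a bilinear map. -/
def br : L →ₗ[A] L →ₗ[A] L :=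
  LinearMap.mk₂ A (fun x y => ⁅x, y⁆) add_lie smul_lie lie_add (fun c x y => lie_smul c x y)

variable (A) in
/-- The lower central series as a sequence of submodules. -/
noncomputable def C : ℕ → Submodule A L
  | 0 => ⊤
  | k + 1 => Submodule.map₂ (br A L) ⊤ (C k)

theorem lcs_le_C (k : ℕ) : (LieModule.lowerCentralSeries A L L k).toSubmodule ≤ C A L k := by
  induction k with
  | zero => simp [C]
  | succ k ih =>
    rw [LieModule.lowerCentralSeries_succ, LieSubmodule.lieIdeal_oper_eq_linear_span',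
      Submodule.span_le]
    rintro _ ⟨x, -, m, hm, rfl⟩
    exact Submodule.apply_mem_map₂ (br A L) (Submodule.mem_top (x := x)) (ih hm)

theorem C_fg [Module.Finite A L] (k : ℕ) : (C A L k).FG := by
  induction k with
  | zero => exact Module.Finite.fg_top
  | succ k ih => exact Submodule.FG.map₂ _ Module.Finite.fg_top ih

variable {L}

theorem map₂_smul_le (J : Ideal A) (X : Submodule A L) :
    Submodule.map₂ (br A L) ⊤ (J • X) ≤
      J • Submodule.map₂ (br A L) ⊤ X := by
  refine Submodule.map₂_le.2 fun x _ y hy => ?_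
  induction hy using Submodule.smul_induction_on' with
  | smul j hj y hy =>
    rw [map_smul]
    exact Submodule.smul_mem_smul hj (Submodule.apply_mem_map₂ _ Submodule.mem_top hy)
  | add a _ b _ ha hb => rw [map_add]; exact add_mem ha hb

theorem C_add_le {N : ℕ} {J : Ideal A} (h : C A L N ≤ J • ⊤) (k : ℕ) :
    C A L (N + k) ≤ J • C A L k := by
  induction k with
  | zero => simpa [C] using h
  | succ k ih =>
    show Submodule.map₂ (br A L) ⊤ (C A L (N + k)) ≤ _
    exact (Submodule.map₂_le_map₂_right ih).trans (map₂_smul_le J _)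

theorem one_tmul_mem_lcs (B : Type u) [CommRing B] [Algebra A B] (k : ℕ) (x : L) (hx : x ∈ C A L k) :
    (1 : B) ⊗ₜ[A] x ∈ LieModule.lowerCentralSeries B (B ⊗[A] L) (B ⊗[A] L) k := by
  induction k generalizing x with
  | zero => simp
  | succ k ih =>
    let f : L →ₗ[A] B ⊗[A] L := TensorProduct.mk A B L 1
    let W : Submodule A L := Submodule.comap f
      ((LieModule.lowerCentralSeries B (B ⊗[A] L) (B ⊗[A] L) (k + 1)).toSubmodule.restrictScalars A)
    have hW : C A L (k + 1) ≤ W := by
      refine Submodule.map₂_le.2 fun a _ y hy => ?_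
      show (1 : B) ⊗ₜ[A] ⁅a, y⁆ ∈ LieModule.lowerCentralSeries B (B ⊗[A] L) (B ⊗[A] L) (k + 1)
      have := LieAlgebra.ExtendScalars.bracket_tmul A B L L (1 : B) 1 a y
      rw [one_mul] at this
      rw [← this, LieModule.lowerCentralSeries_succ]
      exact LieSubmodule.lie_mem_lie (LieSubmodule.mem_top _) (ih y hy)
    exact hW hx

/-- The residue field at a prime, as a localisation of `A ⧸ p`. -/
theorem isLocalizedModule_residueField (p : Ideal A) [p.IsPrime] :
    IsLocalizedModule p.primeCompl (IsScalarTower.toAlgHom A (A ⧸ p) p.ResidueField).toLinearMap where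
  map_units s := by
    rw [Module.End.isUnit_iff]
    have hs : algebraMap A p.ResidueField s ≠ 0 := fun h =>
      s.2 (Ideal.algebraMap_residueField_eq_zero.1 h)
    have : ((algebraMap A (Module.End A p.ResidueField) s) : p.ResidueField → p.ResidueField) =
        fun z => algebraMap A p.ResidueField s * z := by
      funext z; simp [Algebra.smul_def]
    rw [this]
    exact mulLeft_bijective₀ _ hs
  surj z := by
    obtain ⟨⟨a, b, hb⟩, h⟩ := IsLocalization.surj (nonZeroDivisors (A ⧸ p)) z
    obtain ⟨b, rfl⟩ := Ideal.Quotient.mk_surjective b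
    have hb' : b ∈ p.primeCompl := fun hbp => by
      rw [Ideal.Quotient.eq_zero_iff_mem.2 hbp] at hb
      exact zero_notMem_nonZeroDivisors hb
    refine ⟨⟨a, b, hb'⟩, ?_⟩
    rw [Submonoid.mk_smul, Algebra.smul_def, mul_comm]
    exact h
  exists_of_eq {x y} h := ⟨1, by
    rw [one_smul, one_smul]
    exact p.injective_algebraMap_quotient_residueField h⟩

section Fibre

variable (p : Ideal A) [p.IsPrime] (M : Type u) [AddCommGroup M] [Module A M]

theorem exists_smul_mem_of_one_tmul_eq_zero {x : M}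
    (h : (1 : p.ResidueField) ⊗ₜ[A] x = 0) : ∃ s, s ∉ p ∧ s • x ∈ p • (⊤ : Submodule A M) := by
  haveI := isLocalizedModule_residueField p
  let g := TensorProduct.AlgebraTensorModule.rTensor A M
    (IsScalarTower.toAlgHom A (A ⧸ p) p.ResidueField).toLinearMap
  have hg : g ((1 : A ⧸ p) ⊗ₜ[A] x) = 0 := by
    simp only [g, TensorProduct.AlgebraTensorModule.rTensor_tmul]
    simpa using h
  obtain ⟨s, hs⟩ := (IsLocalizedModule.eq_zero_iff p.primeCompl g).1 hg
  refine ⟨s, s.2, ?_⟩
  have := congrArg (TensorProduct.quotTensorEquivQuotSMul M p) hs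
  rw [Submonoid.smul_def, map_smul, map_zero, TensorProduct.quotTensorEquivQuotSMul_mk_one_tmul,
    ← Submodule.Quotient.mk_smul, Submodule.Quotient.mk_eq_zero] at this
  exact this

theorem exists_eq_smul_one_tmul (z : p.ResidueField ⊗[A] M) :
    ∃ (c : p.ResidueField) (x : M), z = c • ((1 : p.ResidueField) ⊗ₜ[A] x) := by
  haveI := isLocalizedModule_residueField p
  let g := TensorProduct.AlgebraTensorModule.rTensor A M
    (IsScalarTower.toAlgHom A (A ⧸ p) p.ResidueField).toLinearMap
  obtain ⟨⟨w, s⟩, hw⟩ := IsLocalizedModule.surj p.primeCompl g z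
  obtain ⟨x, hx⟩ := Submodule.Quotient.mk_surjective _ (TensorProduct.quotTensorEquivQuotSMul M p w)
  have hw' : w = (1 : A ⧸ p) ⊗ₜ[A] x := by
    apply (TensorProduct.quotTensorEquivQuotSMul M p).injective
    rw [TensorProduct.quotTensorEquivQuotSMul_mk_one_tmul, hx]
  refine ⟨(algebraMap A p.ResidueField s)⁻¹, x, ?_⟩
  have hs : algebraMap A p.ResidueField s ≠ 0 := fun h =>
    s.2 (Ideal.algebraMap_residueField_eq_zero.1 h)
  rw [eq_inv_smul_iff₀ hs, algebraMap_smul]
  rw [Submonoid.smul_def] at hw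
  rw [hw, hw']
  simp [g]

end Fibre

variable [Module.Finite A L]

theorem isNilpotent_of_residueField
    (h : ∀ p : PrimeSpectrum A, LieRing.IsNilpotent (p.asIdeal.ResidueField ⊗[A] L)) :
    LieRing.IsNilpotent L := by
  suffices hb : ∃ N, C A L N ≤ (⊥ : Ideal A) • (⊤ : Submodule A L) by
    obtain ⟨N, hN⟩ := hb
    refine LieModule.IsNilpotent.mk (R := A) (L := L) (M := L) (k := N) ?_
    rw [← LieSubmodule.toSubmodule_eq_bot, eq_bot_iff]
    exact (lcs_le_C L N).trans (hN.trans_eq (Submodule.bot_smul _))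
  by_contra hbot
  let S : Set (Ideal A) := {I | ∀ N, ¬ C A L N ≤ I • (⊤ : Submodule A L)}
  have hS0 : (⊥ : Ideal A) ∈ S := fun N hN => hbot ⟨N, hN⟩
  have hzorn : ∀ c ⊆ S, IsChain (· ≤ ·) c → ∀ y ∈ c, ∃ ub ∈ S, ∀ z ∈ c, z ≤ ub := by
    intro c hc hchain y hy
    refine ⟨sSup c, fun N hN => ?_, fun z hz => le_sSup hz⟩
    have hd : DirectedOn (· ≤ ·) c := hchain.directedOn
    have key : ∀ x ∈ (sSup c) • (⊤ : Submodule A L), ∃ I ∈ c, x ∈ I • (⊤ : Submodule A L) := by
      intro x hx
      induction hx using Submodule.smul_induction_on' with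
      | smul r hr m _ =>
        obtain ⟨I, hI, hrI⟩ := (Submodule.mem_sSup_of_directed ⟨y, hy⟩ hd).1 hr
        exact ⟨I, hI, Submodule.smul_mem_smul hrI Submodule.mem_top⟩
      | add a _ b _ ha hb =>
        obtain ⟨I, hI, hIa⟩ := ha
        obtain ⟨J, hJ, hJb⟩ := hb
        obtain ⟨K, hK, hIK, hJK⟩ := hd I hI J hJ
        exact ⟨K, hK, add_mem (Submodule.smul_mono_left hIK hIa) (Submodule.smul_mono_left hJK hJb)⟩
    obtain ⟨t, ht⟩ := C_fg (A := A) L N
    have : ∀ t' : Finset L, t' ⊆ t → ∃ I ∈ c, (↑t' : Set L) ⊆ ↑(I • (⊤ : Submodule A L)) := by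
      classical
      intro t'
      induction t' using Finset.induction_on with
      | empty => exact fun _ => ⟨y, hy, by simp⟩
      | insert a t' _ ih =>
        intro hsub
        obtain ⟨I, hI, hIt⟩ := ih (fun x hx => hsub (Finset.mem_insert_of_mem hx))
        obtain ⟨J, hJ, hJa⟩ := key a (hN (ht ▸ Submodule.subset_span (hsub (Finset.mem_insert_self a t'))))
        obtain ⟨K, hK, hIK, hJK⟩ := hd I hI J hJ
        refine ⟨K, hK, ?_⟩
        rw [Finset.coe_insert, Set.insert_subset_iff]
        exact ⟨Submodule.smul_mono_left hJK hJa, hIt.trans (Submodule.smul_mono_left hIK)⟩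
    obtain ⟨I, hI, hIt⟩ := this t subset_rfl
    exact hc hI N (ht ▸ Submodule.span_le.2 hIt)
  obtain ⟨p, -, hp⟩ := zorn_le_nonempty₀ S hzorn ⊥ hS0
  have out : ∀ J : Ideal A, p < J → ∃ N, C A L N ≤ J • (⊤ : Submodule A L) := by
    intro J hJ
    by_contra hJ'
    exact hJ.not_ge (hp.2 (fun N hN => hJ' ⟨N, hN⟩) hJ.le)
  haveI hprime : p.IsPrime := by
    refine ⟨fun htop => hp.1 0 ?_, fun {a b} hab => ?_⟩
    · rw [htop, Submodule.top_smul]; exact le_top
    · by_contra hcon
      rw [not_or] at hcon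
      obtain ⟨N₁, h₁⟩ := out (p ⊔ Ideal.span {a}) (left_lt_sup.2 (by simpa [Ideal.span_le] using hcon.1))
      obtain ⟨N₂, h₂⟩ := out (p ⊔ Ideal.span {b}) (left_lt_sup.2 (by simpa [Ideal.span_le] using hcon.2))
      refine hp.1 (N₁ + N₂) ((C_add_le h₁ N₂).trans ((Submodule.smul_mono le_rfl h₂).trans ?_))
      rw [← Submodule.mul_smul]
      refine Submodule.smul_mono_left ?_
      rw [Ideal.sup_mul, Ideal.mul_sup, Ideal.mul_sup, Ideal.span_singleton_mul_span_singleton]
      exact sup_le (sup_le Ideal.mul_le_right Ideal.mul_le_left)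
        (sup_le Ideal.mul_le_right ((Ideal.span_singleton_le_iff_mem _).2 hab))
  obtain ⟨c, hc⟩ := (LieModule.isNilpotent_iff p.ResidueField (p.ResidueField ⊗[A] L)
    (p.ResidueField ⊗[A] L)).1 (h ⟨p, hprime⟩)
  have hex : ∃ s, s ∉ p ∧ ∀ x ∈ C A L c, s • x ∈ p • (⊤ : Submodule A L) := by
    obtain ⟨t, ht⟩ := C_fg (A := A) L c
    have : ∀ t' : Finset L, t' ⊆ t → ∃ s, s ∉ p ∧ ∀ x ∈ t', s • x ∈ p • (⊤ : Submodule A L) := by
      classical
      intro t'
      induction t' using Finset.induction_on with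
      | empty => exact fun _ => ⟨1, fun h1 => hprime.ne_top ((Ideal.eq_top_iff_one _).2 h1), by simp⟩
      | insert a t' _ ih =>
        intro hsub
        obtain ⟨s, hs, hst⟩ := ih (fun x hx => hsub (Finset.mem_insert_of_mem hx))
        have hz : (1 : p.ResidueField) ⊗ₜ[A] a = 0 := by
          have := one_tmul_mem_lcs p.ResidueField c a
            (ht ▸ Submodule.subset_span (hsub (Finset.mem_insert_self a t')))
          rw [hc] at this
          exact this
        obtain ⟨r, hr, hra⟩ := exists_smul_mem_of_one_tmul_eq_zero p L hz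
        refine ⟨r * s, fun hrs => (hprime.mem_or_mem hrs).elim hr hs, ?_⟩
        intro x hx
        rcases Finset.mem_insert.1 hx with rfl | hx
        · rw [mul_comm, mul_smul]; exact Submodule.smul_mem _ _ hra
        · rw [mul_smul]; exact Submodule.smul_mem _ _ (hst x hx)
    obtain ⟨s, hs, hst⟩ := this t subset_rfl
    refine ⟨s, hs, fun x hx => ?_⟩
    have hle : C A L c ≤ (p • (⊤ : Submodule A L)).comap (LinearMap.lsmul A L s) :=
      ht ▸ Submodule.span_le.2 hst
    exact hle hx
  obtain ⟨s, hs, hsC⟩ := hex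
  obtain ⟨N, hN⟩ := out (p ⊔ Ideal.span {s}) (left_lt_sup.2 (by simpa [Ideal.span_le] using hs))
  refine hp.1 (N + c) ((C_add_le hN c).trans ?_)
  rw [Submodule.sup_smul]
  refine sup_le (Submodule.smul_mono le_rfl le_top) ?_
  rw [Submodule.smul_le]
  intro r hr x hx
  obtain ⟨a, rfl⟩ := Ideal.mem_span_singleton.1 hr
  rw [mul_comm, mul_smul]
  exact Submodule.smul_mem _ _ (hsC x hx)

theorem isNilpotent_of_ad (h : ∀ x : L, IsNilpotent (LieAlgebra.ad A L x)) :
    LieRing.IsNilpotent L := by
  refine isNilpotent_of_residueField (A := A) fun p => ?_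
  rw [LieAlgebra.isNilpotent_iff_forall (R := p.asIdeal.ResidueField)]
  intro z
  obtain ⟨c, x, rfl⟩ := exists_eq_smul_one_tmul p.asIdeal L z
  rw [map_smul]
  refine IsNilpotent.smul ?_ c
  have e : LieAlgebra.ad p.asIdeal.ResidueField _ ((1 : p.asIdeal.ResidueField) ⊗ₜ[A] x) =
      (LieAlgebra.ad A L x).baseChange p.asIdeal.ResidueField := by
    refine TensorProduct.AlgebraTensorModule.ext fun b y => ?_
    rw [LieAlgebra.ad_apply, LieAlgebra.ExtendScalars.bracket_tmul, one_mul,
      LinearMap.baseChange_tmul, LieAlgebra.ad_apply]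
  rw [e]
  obtain ⟨n, hn⟩ := h x
  refine ⟨n, ?_⟩
  rw [← LinearMap.baseChange_pow, hn, LinearMap.baseChange_zero]

end Groth.Agent.LieNilp26
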